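/-
Checks of the products.
-/
import Cfsg.Agent.Lib.Spor.J3.Mat.Data

namespace CfsgLib.Spor.J3.Mat

theorem goodB0 : ∀ k : Fin 50, progB.Good (0 + k) := by decide +kernel

theorem goodB50 : ∀ k : Fin 50, progB.Good (50 + k) := by decide +kernel

theorem goodB100 : ∀ k : Fin 50, progB.Good (100 + k) := by decide +kernel

theorem goodB150 : ∀ k : Fin 50, progB.Good (150 + k) := by decide +kernel

theorem goodB200 : ∀ k : Fin 50, progB.Good (200 + k) := by decide +kernel

end CfsgLib.Spor.J3.Mat
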