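/-
Checks of the products.
-/
import Cfsg.Agent.Lib.Spor.J3.Mat.Data

namespace CfsgLib.Spor.J3.Mat

theorem goodB250 : ∀ k : Fin 50, progB.Good (250 + k) := by decide +kernel

theorem goodB300 : ∀ k : Fin 50, progB.Good (300 + k) := by decide +kernel

theorem goodB350 : ∀ k : Fin 50, progB.Good (350 + k) := by decide +kernel

theorem goodB400 : ∀ k : Fin 50, progB.Good (400 + k) := by decide +kernel

theorem goodB450 : ∀ k : Fin 50, progB.Good (450 + k) := by decide +kernel

end CfsgLib.Spor.J3.Mat
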