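/-
Checks of the products.
-/
import Cfsg.Agent.Lib.Spor.J3.Mat.Data

namespace CfsgLib.Spor.J3.Mat

theorem goodB500 : ∀ k : Fin 50, progB.Good (500 + k) := by decide +kernel

theorem goodB550 : ∀ k : Fin 50, progB.Good (550 + k) := by decide +kernel

theorem goodB600 : ∀ k : Fin 50, progB.Good (600 + k) := by decide +kernel

theorem goodB650 : ∀ k : Fin 50, progB.Good (650 + k) := by decide +kernel

theorem goodB700 : ∀ k : Fin 50, progB.Good (700 + k) := by decide +kernel

end CfsgLib.Spor.J3.Mat
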