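/-
Checks of the products.
-/
import Cfsg.Agent.Lib.Spor.J3.Mat.Data

namespace CfsgLib.Spor.J3.Mat

theorem goodB750 : ∀ k : Fin 50, progB.Good (750 + k) := by decide +kernel

theorem goodB800 : ∀ k : Fin 50, progB.Good (800 + k) := by decide +kernel

theorem goodB850 : ∀ k : Fin 50, progB.Good (850 + k) := by decide +kernel

theorem goodB900 : ∀ k : Fin 50, progB.Good (900 + k) := by decide +kernel

theorem goodB950 : ∀ k : Fin 50, progB.Good (950 + k) := by decide +kernel

end CfsgLib.Spor.J3.Mat
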