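/-
Checks of the products.
-/
import Cfsg.Agent.Lib.Spor.J3.Mat.Data

namespace CfsgLib.Spor.J3.Mat

theorem goodB1000 : ∀ k : Fin 13, progB.Good (1000 + k) := by decide +kernel

end CfsgLib.Spor.J3.Mat
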