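/-
All checks of the products.
-/
import Cfsg.Agent.Lib.Spor.J3.Mat.Check0
import Cfsg.Agent.Lib.Spor.J3.Mat.Check1
import Cfsg.Agent.Lib.Spor.J3.Mat.Check2
import Cfsg.Agent.Lib.Spor.J3.Mat.Check3
import Cfsg.Agent.Lib.Spor.J3.Mat.Check4

namespace CfsgLib.Spor.J3.Mat

theorem goodA : ∀ k : Fin 35, progA.Good k := by decide +kernel

theorem progB_good (k : ℕ) (hk : k < progB.steps.length) : progB.Good k := by
  have hl : progB.steps.length = 1013 := by decide +kernel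
  rw [hl] at hk
  by_cases h0 : k < 50
  · obtain ⟨j, rfl⟩ : ∃ j, k = 0 + j := ⟨k - 0, by omega⟩
    exact goodB0 ⟨j, by omega⟩
  by_cases h50 : k < 100
  · obtain ⟨j, rfl⟩ : ∃ j, k = 50 + j := ⟨k - 50, by omega⟩
    exact goodB50 ⟨j, by omega⟩
  by_cases h100 : k < 150
  · obtain ⟨j, rfl⟩ : ∃ j, k = 100 + j := ⟨k - 100, by omega⟩
    exact goodB100 ⟨j, by omega⟩
  by_cases h150 : k < 200
  · obtain ⟨j, rfl⟩ : ∃ j, k = 150 + j := ⟨k - 150, by omega⟩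
    exact goodB150 ⟨j, by omega⟩
  by_cases h200 : k < 250
  · obtain ⟨j, rfl⟩ : ∃ j, k = 200 + j := ⟨k - 200, by omega⟩
    exact goodB200 ⟨j, by omega⟩
  by_cases h250 : k < 300
  · obtain ⟨j, rfl⟩ : ∃ j, k = 250 + j := ⟨k - 250, by omega⟩
    exact goodB250 ⟨j, by omega⟩
  by_cases h300 : k < 350
  · obtain ⟨j, rfl⟩ : ∃ j, k = 300 + j := ⟨k - 300, by omega⟩
    exact goodB300 ⟨j, by omega⟩
  by_cases h350 : k < 400
  · obtain ⟨j, rfl⟩ : ∃ j, k = 350 + j := ⟨k - 350, by omega⟩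
    exact goodB350 ⟨j, by omega⟩
  by_cases h400 : k < 450
  · obtain ⟨j, rfl⟩ : ∃ j, k = 400 + j := ⟨k - 400, by omega⟩
    exact goodB400 ⟨j, by omega⟩
  by_cases h450 : k < 500
  · obtain ⟨j, rfl⟩ : ∃ j, k = 450 + j := ⟨k - 450, by omega⟩
    exact goodB450 ⟨j, by omega⟩
  by_cases h500 : k < 550
  · obtain ⟨j, rfl⟩ : ∃ j, k = 500 + j := ⟨k - 500, by omega⟩
    exact goodB500 ⟨j, by omega⟩
  by_cases h550 : k < 600
  · obtain ⟨j, rfl⟩ : ∃ j, k = 550 + j := ⟨k - 550, by omega⟩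
    exact goodB550 ⟨j, by omega⟩
  by_cases h600 : k < 650
  · obtain ⟨j, rfl⟩ : ∃ j, k = 600 + j := ⟨k - 600, by omega⟩
    exact goodB600 ⟨j, by omega⟩
  by_cases h650 : k < 700
  · obtain ⟨j, rfl⟩ : ∃ j, k = 650 + j := ⟨k - 650, by omega⟩
    exact goodB650 ⟨j, by omega⟩
  by_cases h700 : k < 750
  · obtain ⟨j, rfl⟩ : ∃ j, k = 700 + j := ⟨k - 700, by omega⟩
    exact goodB700 ⟨j, by omega⟩
  by_cases h750 : k < 800
  · obtain ⟨j, rfl⟩ : ∃ j, k = 750 + j := ⟨k - 750, by omega⟩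
    exact goodB750 ⟨j, by omega⟩
  by_cases h800 : k < 850
  · obtain ⟨j, rfl⟩ : ∃ j, k = 800 + j := ⟨k - 800, by omega⟩
    exact goodB800 ⟨j, by omega⟩
  by_cases h850 : k < 900
  · obtain ⟨j, rfl⟩ : ∃ j, k = 850 + j := ⟨k - 850, by omega⟩
    exact goodB850 ⟨j, by omega⟩
  by_cases h900 : k < 950
  · obtain ⟨j, rfl⟩ : ∃ j, k = 900 + j := ⟨k - 900, by omega⟩
    exact goodB900 ⟨j, by omega⟩
  by_cases h950 : k < 1000
  · obtain ⟨j, rfl⟩ : ∃ j, k = 950 + j := ⟨k - 950, by omega⟩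
    exact goodB950 ⟨j, by omega⟩
  by_cases h1000 : k < 1013
  · obtain ⟨j, rfl⟩ : ∃ j, k = 1000 + j := ⟨k - 1000, by omega⟩
    exact goodB1000 ⟨j, by omega⟩
  omega

end CfsgLib.Spor.J3.Mat
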