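/-
The triple cover by matrices: its centre, its order and its simple central quotient.
-/
import Cfsg.Agent.Lib.Spor.J3.Mat.Checks
import Cfsg.Agent.Lib.Spor.J3.Order

namespace CfsgLib.Spor.J3.Mat

open CfsgLib.Spor.TC CfsgLib.Spor.Fi22.U6 Cfsg.Spor Matrix

/-- The place of a product, if it was computed. -/
def Prog.find (p : Prog) (a b : ℕ) : Option ℕ :=
  (p.steps.findIdx? fun s => s.1 == a && s.2.1 == b).map (p.base.length + ·)

/-- The place of the product of a word. -/
def Prog.place (p : Prog) : ℕ → List ℕ → Option ℕ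
  | a, [] => some a
  | a, x :: w => (p.find a x).bind fun b => p.place b w

theorem Prog.find_spec {p : Prog} (hgood : ∀ k, k < p.steps.length → p.Good k) {a b c : ℕ}
    (h : p.find a b = some c) : p.val a * p.val b = p.val c := by
  obtain ⟨k, hk, rfl⟩ := Option.map_eq_some_iff.1 h
  obtain ⟨hlt, hp, -⟩ := List.findIdx?_eq_some_iff_getElem.1 hk
  simp only [Bool.and_eq_true, beq_iff_eq] at hp
  have e := (hgood k hlt).2.2
  rw [List.getD_eq_getElem _ _ hlt, hp.1, hp.2] at e
  rw [e, Prog.val, Prog.vals, List.getD_append_right _ _ _ _ (by omega), Nat.add_sub_cancel_left,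
    List.getD_eq_getElem _ _ (by rw [List.length_map]; exact hlt), List.getElem_map]

theorem Prog.place_spec {p : Prog} (hgood : ∀ k, k < p.steps.length → p.Good k) :
    ∀ {w : List ℕ} {a c : ℕ}, p.place a w = some c → p.val a * (w.map p.val).prod = p.val c := by
  intro w
  induction w with
  | nil => intro a c h; obtain rfl : a = c := Option.some.inj h; simp
  | cons x w ih =>
    intro a c h
    obtain ⟨b, hb, h'⟩ := Option.bind_eq_some_iff.1 h
    rw [List.map_cons, List.prod_cons, ← mul_assoc, p.find_spec hgood hb]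
    exact ih h'

theorem progA_good (k : ℕ) (hk : k < progA.steps.length) : progA.Good k :=
  goodA ⟨k, lt_of_lt_of_eq hk (by decide +kernel)⟩

theorem gens_spec : ∀ i : Fin 43, (∃ Z, progA.val i = j3A Four .w Z) ∨ (∃ Z, progA.val i = j3E Four .w Z) ∨
    (∃ Z, progA.val i = j3D Four .w Z) ∨ (∃ Z, Z ≠ 0 ∧ progA.val i = j3B Four Z) ∨
    ∃ Z, Z ≠ 0 ∧ progA.val i = j3C Four Z := by decide +kernel

theorem gens_back : ∀ Z : F9, progB.val (outGens.getD (num9 Z) 0) = j3A Four .w Z ∧
    progB.val (outGens.getD (9 + num9 Z) 0) = j3E Four .w Z ∧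
    progB.val (outGens.getD (18 + num9 Z) 0) = j3D Four .w Z ∧
    (Z ≠ 0 → progB.val (outGens.getD (26 + num9 Z) 0) = j3B Four Z ∧
      progB.val (outGens.getD (34 + num9 Z) 0) = j3C Four Z) := by decide +kernel

theorem outGens_lt : ∀ i : Fin 43, outGens.getD i 0 < 5 + progB.steps.length := by decide +kernel

theorem inv_eq : ∀ x : Fin 5, outA.getD x 0 < 43 + progA.steps.length ∧
    progB.val x = progA.val (outA.getD x 0) := by decide +kernel

theorem scalar_eq : progB.val 4 = Four.w • (1 : M9) := by decide +kernel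

theorem sq_scalar : ∀ x : Fin 4, ∃ c : Four, progB.place x [(x : ℕ)] = some (outSq.getD x 0) ∧
    progB.val (outSq.getD x 0) = c • (1 : M9) := by decide +kernel

theorem rels_below : ∀ i : Fin relsJ.length, (powWord relsJ[i].1 relsJ[i].2) ≠ [] ∧
    ∀ y ∈ powWord relsJ[i].1 relsJ[i].2, y < 4 := by decide +kernel

theorem rels_scalar : ∀ i : Fin relsJ.length, ∃ c : Four,
    progB.place ((powWord relsJ[i].1 relsJ[i].2).headD 0) (powWord relsJ[i].1 relsJ[i].2).tail =
      some (outRels.getD i 0) ∧ progB.val (outRels.getD i 0) = c • (1 : M9) := by decide +kernel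

theorem noncomm : progB.val 0 * progB.val 2 ≠ progB.val 2 * progB.val 0 := by decide +kernel

theorem omega_inj : ∀ n m : ZMod 3, omegaPow Four .w n = omegaPow Four .w m → n = m := by decide +kernel

theorem gens_same : ∀ i : Fin 43, progA.val i = progB.val (outGens.getD i 0) := by decide +kernel

theorem sq_nonzero : ∀ x : Fin 4, progB.val (outSq.getD x 0) ≠ 0 := by decide +kernel

theorem gens_unit (i : Fin 43) : IsUnit (progA.val i) := by
  have hb : ∀ j, j < progB.base.length → progB.val j ∈ IsUnit.submonoid M9 := by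
    intro j hj
    have hj5 : j < 5 := lt_of_lt_of_eq hj (by decide +kernel)
    by_cases h4 : j < 4
    · obtain ⟨c, hp, hc⟩ := sq_scalar ⟨j, h4⟩
      have hc0 : c ≠ 0 := fun h0 => sq_nonzero ⟨j, h4⟩ (by rw [hc, h0, zero_smul])
      have e := progB.place_spec progB_good hp
      simp only [List.map_cons, List.map_nil, List.prod_cons, List.prod_nil, mul_one] at e
      refine IsUnit.of_mul_eq_one (c⁻¹ • progB.val j) ?_
      rw [Matrix.mul_smul, e, hc, smul_smul, inv_mul_cancel₀ hc0, one_smul]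
    · obtain rfl : j = 4 := by omega
      refine IsUnit.of_mul_eq_one (Four.u • (1 : M9)) ?_
      rw [scalar_eq, Matrix.mul_smul, mul_one, smul_smul]
      exact one_smul Four (1 : M9)
  rw [gens_same i]
  exact progB.mem progB_good hb _
    (lt_of_lt_of_eq (outGens_lt i) (by rw [show progB.base.length = 5 by decide +kernel]))

/-- The field map determined by a cube root. -/
def fieldMap {K : Type*} [Field K] (ω : K) : Four → K
  | .o => 0
  | .e => 1
  | .w => ω
  | .u => ω + 1

theorem fieldMap_mul {K : Type*} [Field K] {ω : K} (hω : ω ^ 2 + ω + 1 = 0) (h2 : ∀ x : K, x + x = 0)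
    (a b : Four) : fieldMap ω (Four.mul a b) = fieldMap ω a * fieldMap ω b := by
  cases a <;> cases b <;> simp only [Four.mul, fieldMap, mul_zero, zero_mul, one_mul, mul_one]
  all_goals first
    | linear_combination hω - h2 (ω ^ 2)
    | linear_combination -hω + h2 ω + h2 1
    | linear_combination hω - h2 (ω ^ 2) - h2 ω
    | linear_combination -hω + h2 1
    | linear_combination hω - h2 (ω ^ 2) - h2 1
    | linear_combination -hω
    | linear_combination hω - h2 (ω ^ 2) - h2 ω - h2 1
    | linear_combination -hω + h2 ω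

theorem fieldMap_add {K : Type*} [Field K] {ω : K} (h2 : ∀ x : K, x + x = 0) (a b : Four) :
    fieldMap ω (Four.add a b) = fieldMap ω a + fieldMap ω b := by
  cases a <;> cases b <;> simp only [Four.add, fieldMap, add_zero, zero_add]
  all_goals first
    | exact add_comm _ _
    | linear_combination -h2 ω
    | linear_combination -h2 (1 : K)
    | linear_combination h2 ω
    | linear_combination h2 (1 : K)
    | linear_combination h2 ω + h2 (1 : K)
    | linear_combination -h2 ω - h2 (1 : K)

section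

variable {F : Type*} [Field F] [Fintype F] (hF : Fintype.card F = 4) (ω : F) (hω : ω ^ 2 + ω + 1 = 0)
include hF hω

/-- The isomorphism sending the chosen cube root to `ω`. -/
theorem exists_field_equiv : ∃ φ : Four →+* F, φ .w = ω ∧ Function.Bijective φ := by
  have h2 : ∀ x : F, x + x = 0 := fun x => by
    have h4 : ((4 : ℕ) : F) = 0 := hF ▸ FiniteField.cast_card_eq_zero F
    have h2 : (2 : F) = 0 := mul_self_eq_zero.1 (by push_cast at h4; linear_combination h4)
    linear_combination x * h2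
  let φ : Four →+* F :=
    { toFun := fieldMap ω
      map_one' := rfl
      map_zero' := rfl
      map_mul' := fieldMap_mul hω h2
      map_add' := fieldMap_add h2 }
  refine ⟨φ, rfl, (Fintype.bijective_iff_injective_and_card _).2 ⟨φ.injective, ?_⟩⟩
  rw [hF, Four.card_four]

theorem full : (∀ g ∈ Subgroup.center (threeJ3 F ω), ∃ c : F,
      ((g : GL F9 F) : Matrix F9 F9 F) = c • (1 : Matrix F9 F9 F)) ∧ Nat.card (Subgroup.center (threeJ3 F ω)) = 3 ∧ Nat.card (threeJ3 F ω) = 150698880 ∧
    Nonempty (Pres ActJ.act.k relsJ ≃* J3 F ω) := by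
  obtain ⟨φ, hφw, hφ⟩ := exists_field_equiv hF ω hω
  have hinj : Function.Injective fun M : M9 => M.map φ := fun M N h => by
    ext i j
    exact hφ.1 (congrFun (congrFun h i) j)
  have hpow : ∀ n, φ (omegaPow Four .w n) = omegaPow F ω n := fun n => by
    rw [omegaPow, map_pow, hφw, omegaPow]
  have hA : ∀ Z, (j3A Four .w Z).map φ = j3A F ω Z := fun Z => by
    ext i j
    simp only [j3A, Matrix.map_apply, Matrix.diagonal_apply, apply_ite φ, hpow, map_zero]
  have hE : ∀ Z, (j3E Four .w Z).map φ = j3E F ω Z := fun Z => by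
    ext i j
    simp only [j3E, Matrix.map_apply, Matrix.diagonal_apply, apply_ite φ, hpow, map_zero]
  have hD : ∀ Z, (j3D Four .w Z).map φ = j3D F ω Z := fun Z => by
    ext i j
    simp only [j3D, Matrix.map_apply, Matrix.of_apply, apply_ite φ, j3Lam, map_one, map_zero, map_pow, hφw]
  have hB : ∀ Z, (j3B Four Z).map φ = j3B F Z := fun Z => by
    ext i j
    simp only [j3B, Matrix.map_apply, Matrix.of_apply, apply_ite φ, map_one, map_zero]
  have hC : ∀ Z, (j3C Four Z).map φ = j3C F Z := fun Z => by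
    ext i j
    simp only [j3C, Matrix.map_apply, Matrix.of_apply, apply_ite φ, map_one, map_zero]
  -- the four involutions and the scalar, in the group
  let S : Submonoid M9 :=
    { carrier := {M | ∃ g : threeJ3 F ω, ((g : GL F9 F) : Matrix F9 F9 F) = M.map φ}
      one_mem' := ⟨1, by simp⟩
      mul_mem' := fun ⟨g, hg⟩ ⟨h, hh⟩ => ⟨g * h, by simp [hg, hh, Matrix.map_mul]⟩ }
  have hfin : Finite (GL F9 F) := inferInstance
  have hbase : ∀ i, i < progA.base.length → progA.val i ∈ S := by
    intro i hi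
    have hmem : (progA.val i).map φ ∈ j3Gens F ω := by
      rcases gens_spec ⟨i, lt_of_lt_of_eq hi (by decide +kernel)⟩ with ⟨Z, e⟩ | ⟨Z, e⟩ | ⟨Z, e⟩ | ⟨Z, hZ, e⟩ | ⟨Z, hZ, e⟩ <;>
        rw [show progA.val i = _ from e]
      · exact Or.inl (Or.inl (Or.inl (Or.inl ⟨Z, (hA Z).symm⟩)))
      · exact Or.inl (Or.inl (Or.inl (Or.inr ⟨Z, (hE Z).symm⟩)))
      · exact Or.inl (Or.inl (Or.inr ⟨Z, (hD Z).symm⟩))
      · exact Or.inl (Or.inr ⟨Z, hZ, hB Z⟩)
      · exact Or.inr ⟨Z, hZ, hC Z⟩
    have hu : IsUnit ((progA.val i).map φ) :=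
      (gens_unit ⟨i, lt_of_lt_of_eq hi (by decide +kernel)⟩).map φ.mapMatrix
    exact ⟨⟨hu.unit, Subgroup.subset_closure (show ((hu.unit : GL F9 F) : Matrix F9 F9 F) ∈ j3Gens F ω from hmem)⟩, rfl⟩
  have hS := progA.mem progA_good hbase
  have hu : ∀ x : Fin 5, ∃ g : threeJ3 F ω, ((g : GL F9 F) : Matrix F9 F9 F) = (progB.val x).map φ := fun x => by
    rw [(inv_eq x).2]
    exact hS _ (lt_of_lt_of_eq (inv_eq x).1 (by rw [show progA.base.length = 43 by decide +kernel]))
  choose u hu using hu
  let v : ℕ → threeJ3 F ω := fun x => if h : x < 4 then u ⟨x, by omega⟩ else 1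
  have hv : ∀ x, x < 4 → ((v x : GL F9 F) : Matrix F9 F9 F) = (progB.val x).map φ := fun x hx => by
    rw [show v x = u ⟨x, by omega⟩ from dif_pos hx, hu]
  have hcentral : ∀ (g : threeJ3 F ω) (c : Four), ((g : GL F9 F) : Matrix F9 F9 F) = (c • (1 : M9)).map φ →
      g ∈ Subgroup.center (threeJ3 F ω) := by
    intro g c hg
    rw [Subgroup.mem_center_iff]
    refine fun h => Subtype.ext (Units.ext ?_)
    simp only [Subgroup.coe_mul, Units.val_mul, hg]
    rw [show (c • (1 : M9)).map φ = φ c • (1 : Matrix F9 F9 F) by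
      ext i j; simp [Matrix.one_apply, apply_ite φ], Matrix.smul_mul, Matrix.mul_smul, one_mul, mul_one]
  have hword : ∀ (w : List ℕ), (∀ y ∈ w, y < 4) →
      (((w.map v).prod : threeJ3 F ω) : GL F9 F).val = ((w.map progB.val).prod).map φ := by
    intro w
    induction w with
    | nil => intro _; simp
    | cons y w ih =>
      intro hw
      simp only [List.map_cons, List.prod_cons, Subgroup.coe_mul, Units.val_mul, Matrix.map_mul]
      rw [hv y (hw y List.mem_cons_self), ih fun z hz => hw z (List.mem_cons_of_mem _ hz)]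
  let q := QuotientGroup.mk' (Subgroup.center (threeJ3 F ω))
  have hsat : Sat ActJ.act.k relsJ fun x => q (v x) := by
    refine ⟨fun x => ?_, fun x hx => ?_, fun r hr => ?_⟩
    · rw [← map_mul]
      refine (QuotientGroup.eq_one_iff _).2 ?_
      by_cases hx : x < 4
      · obtain ⟨c, hp, hc⟩ := sq_scalar ⟨x, hx⟩
        refine hcentral _ c ?_
        have h := hword [x, x] (by intro y hy; simp at hy; omega)
        have h' := progB.place_spec progB_good hp
        simp only [List.map_cons, List.map_nil, List.prod_cons, List.prod_nil, mul_one] at h h'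
        rw [h, ← hc]
        exact congrArg (fun M : M9 => M.map φ) h'
      · simp [v, hx, Subgroup.one_mem]
    · simp [v, show ¬ x < 4 from not_lt.2 hx]
    · obtain ⟨i, hi, rfl⟩ := List.mem_iff_getElem.1 hr
      obtain ⟨c, hp, hc⟩ := rels_scalar ⟨i, hi⟩
      obtain ⟨hne, hlt⟩ := rels_below ⟨i, hi⟩
      simp only [Fin.getElem_fin] at hp hc hne hlt
      rw [← ev_powWord]
      show ((powWord relsJ[i].1 relsJ[i].2).map fun x => q (v x)).prod = 1
      rw [show (fun x => q (v x)) = q ∘ v from rfl, ← List.map_map, ← map_list_prod]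
      refine (QuotientGroup.eq_one_iff _).2 (hcentral _ c ?_)
      rw [hword _ hlt, ← hc, ← progB.place_spec progB_good hp]
      generalize powWord relsJ[i].1 relsJ[i].2 = w at hne
      cases w with
      | nil => exact absurd rfl hne
      | cons y w => simp
  let ψ := presHom hsat
  -- generation
  let T : Subgroup (threeJ3 F ω) := Subgroup.closure ((v '' Set.Iio 4) ∪ {u 4})
  let S' : Submonoid M9 :=
    { carrier := {M | ∃ g ∈ T, ((g : GL F9 F) : Matrix F9 F9 F) = M.map φ}
      one_mem' := ⟨1, one_mem _, by simp⟩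
      mul_mem' := fun ⟨g, hg, e⟩ ⟨h, hh, e'⟩ => ⟨g * h, mul_mem hg hh, by simp [e, e', Matrix.map_mul]⟩ }
  have hS' := progB.mem (S := S') progB_good fun i hi => by
    have hi5 : i < 5 := lt_of_lt_of_eq hi (by decide +kernel)
    by_cases h4 : i < 4
    · exact ⟨v i, Subgroup.subset_closure (Or.inl ⟨i, h4, rfl⟩), hv i h4⟩
    · obtain rfl : i = 4 := by omega
      exact ⟨u 4, Subgroup.subset_closure (Or.inr rfl), hu 4⟩
  have hgenmem : ∀ i, i < 43 → progB.val (outGens.getD i 0) ∈ S' := fun i hi =>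
    hS' _ (lt_of_lt_of_eq (outGens_lt ⟨i, hi⟩) (by rw [show progB.base.length = 5 by decide +kernel]))
  have hTtop : T = ⊤ := by
    refine Subgroup.map_injective (threeJ3 F ω).subtype_injective ?_
    rw [← MonoidHom.range_eq_map, Subgroup.range_subtype]
    refine le_antisymm (Subgroup.map_subtype_le T) ?_
    unfold threeJ3
    rw [Subgroup.closure_le]
    intro g hg
    have key : ∃ M : M9, M ∈ S' ∧ M.map φ = (g : Matrix F9 F9 F) := by
      have hn : ∀ Z : F9, num9 Z < 9 := by decide
      have hn0 : ∀ Z : F9, Z ≠ 0 → 1 ≤ num9 Z := by decide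
      rcases hg with (((⟨Z, e⟩ | ⟨Z, e⟩) | ⟨Z, e⟩) | ⟨Z, hZ, e⟩) | ⟨Z, hZ, e⟩
      · exact ⟨_, hgenmem (num9 Z) (by have := hn Z; omega), by rw [(gens_back Z).1, hA]; exact e⟩
      · exact ⟨_, hgenmem (9 + num9 Z) (by have := hn Z; omega), by rw [(gens_back Z).2.1, hE]; exact e⟩
      · exact ⟨_, hgenmem (18 + num9 Z) (by have := hn Z; omega), by rw [(gens_back Z).2.2.1, hD]; exact e⟩
      · exact ⟨_, hgenmem (26 + num9 Z) (by have := hn Z; omega), by rw [((gens_back Z).2.2.2 hZ).1, hB]; exact e.symm⟩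
      · exact ⟨_, hgenmem (34 + num9 Z) (by have := hn Z; omega), by rw [((gens_back Z).2.2.2 hZ).2, hC]; exact e.symm⟩
    obtain ⟨M, ⟨h, hh, e⟩, e'⟩ := key
    exact ⟨h, hh, Units.ext (e.trans e')⟩
  have hsurj : Function.Surjective ψ := by
    refine presHom_surjective hsat (top_unique ?_)
    rw [← Subgroup.map_top_of_surjective q (QuotientGroup.mk'_surjective _), ← hTtop, MonoidHom.map_closure,
      Subgroup.closure_le, Set.image_union, Set.image_singleton, Set.union_subset_iff]
    refine ⟨?_, ?_⟩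
    · rintro _ ⟨_, ⟨x, hx, rfl⟩, rfl⟩
      exact Subgroup.subset_closure ⟨x, hx, rfl⟩
    · rw [Set.singleton_subset_iff, show q (u 4) = 1 from (QuotientGroup.eq_one_iff _).2
        (hcentral _ .w (by rw [hu 4, ← scalar_eq]; rfl))]
      exact one_mem _
  have hne : ¬ ψ.ker = ⊤ := by
    intro h
    have h1 : ∀ z : threeJ3 F ω, z ∈ Subgroup.center (threeJ3 F ω) := fun z => by
      obtain ⟨y, hy⟩ := hsurj (q z)
      refine (QuotientGroup.eq_one_iff z).1 (hy.symm.trans ?_)
      exact MonoidHom.mem_ker.1 (h ▸ Subgroup.mem_top y)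
    have h2 := congrArg (fun z : threeJ3 F ω => ((z : GL F9 F) : Matrix F9 F9 F)) ((Subgroup.mem_center_iff.1 (h1 (v 0))) (v 2))
    simp only [Subgroup.coe_mul, Units.val_mul, hv 0 (by omega), hv 2 (by omega), ← Matrix.map_mul] at h2
    exact noncomm (hinj h2).symm
  haveI := simple
  have hker : ψ.ker = ⊥ := (IsSimpleGroup.eq_bot_or_eq_top_of_normal ψ.ker inferInstance).resolve_right hne
  let e := MulEquiv.ofBijective ψ ⟨(MonoidHom.ker_eq_bot_iff ψ).1 hker, hsurj⟩
  -- the centre
  have hdiag : ∀ g ∈ Subgroup.center (threeJ3 F ω),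
      ((g : GL F9 F) : Matrix F9 F9 F) = ((g : GL F9 F) : Matrix F9 F9 F) 0 0 • (1 : Matrix F9 F9 F) := by
    intro g hg
    have hcomm : ∀ M : M9, (∃ h : threeJ3 F ω, ((h : GL F9 F) : Matrix F9 F9 F) = M.map φ) →
        ((g : GL F9 F) : Matrix F9 F9 F) * M.map φ = M.map φ * ((g : GL F9 F) : Matrix F9 F9 F) := by
      rintro M ⟨h, hh⟩
      have h2 := congrArg (fun z : threeJ3 F ω => ((z : GL F9 F) : Matrix F9 F9 F)) (Subgroup.mem_center_iff.1 hg h)
      simp only [Subgroup.coe_mul, Units.val_mul, hh] at h2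
      exact h2.symm
    have hn : ∀ Z : F9, num9 Z < 9 := by decide
    have hlow : ∀ i, i < 43 → ∃ h : threeJ3 F ω,
        ((h : GL F9 F) : Matrix F9 F9 F) = (progB.val (outGens.getD i 0)).map φ := fun i hi => by
      obtain ⟨h, -, e⟩ := hgenmem i hi
      exact ⟨h, e⟩
    set G := ((g : GL F9 F) : Matrix F9 F9 F)
    have hoff : ∀ i j, i ≠ j → G i j = 0 := by
      intro i j hij
      obtain ⟨Z, hZ⟩ : ∃ Z : F9, Z.1 * i.1 + Z.2 * i.2 ≠ Z.1 * j.1 + Z.2 * j.2 := by
        revert i j; decide
      have h := congrFun (congrFun (hcomm _ (hlow (num9 Z) (by have := hn Z; omega))) i) j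
      rw [(gens_back Z).1, hA, j3A, Matrix.mul_diagonal, Matrix.diagonal_mul] at h
      by_contra h0
      refine hZ (omega_inj _ _ (hφ.1 ?_))
      rw [hpow, hpow]
      exact (mul_left_cancel₀ h0 (h.trans (mul_comm _ _))).symm
    ext i j
    by_cases hij : i = j
    · subst hij
      have h := congrFun (congrFun (hcomm _ (hlow (18 + num9 i) (by have := hn i; omega))) i) 0
      rw [(gens_back i).2.2.1, hD, Matrix.mul_apply, Matrix.mul_apply,
        Finset.sum_eq_single i (fun k _ hk => by rw [hoff i k (Ne.symm hk), zero_mul]) (by simp),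
        Finset.sum_eq_single (0 : F9) (fun k _ hk => by rw [hoff k 0 hk, mul_zero]) (by simp)] at h
      simpa [j3D, j3Lam] using h
    · simp [hoff i j hij, hij]
  have hc : Nat.card (Subgroup.center (threeJ3 F ω)) = 3 := by
    let f : Subgroup.center (threeJ3 F ω) → {x : F // x ≠ 0} := fun g =>
      ⟨((g.1 : GL F9 F) : Matrix F9 F9 F) 0 0, fun h0 => by
        have h := hdiag g.1 g.2
        rw [h0, zero_smul] at h
        exact (g.1 : GL F9 F).ne_zero h⟩
    have hf : Function.Bijective f := by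
      refine ⟨fun g g' h => Subtype.ext (Subtype.ext (Units.ext ?_)), ?_⟩
      · rw [hdiag g.1 g.2, hdiag g'.1 g'.2, show ((g.1 : GL F9 F) : Matrix F9 F9 F) 0 0 =
          ((g'.1 : GL F9 F) : Matrix F9 F9 F) 0 0 from congrArg Subtype.val h]
      · have hpw : ∀ n : ℕ, (((u 4) ^ n : threeJ3 F ω) : GL F9 F).val = (φ .w) ^ n • (1 : Matrix F9 F9 F) := by
          intro n
          rw [Subgroup.coe_pow, Units.val_pow_eq_pow_val, hu 4, show progB.val ((4 : Fin 5) : ℕ) = progB.val 4 from rfl,
            scalar_eq, show (Four.w • (1 : M9)).map φ = φ .w • (1 : Matrix F9 F9 F) by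
              ext i j; simp [Matrix.one_apply, apply_ite φ], smul_pow, one_pow]
        rintro ⟨x, hx⟩
        obtain ⟨a, rfl⟩ := hφ.2 x
        obtain ⟨n, hn⟩ : ∃ n : Fin 3, Four.w ^ (n : ℕ) = a := by
          have : a ≠ 0 := fun h => hx (h ▸ map_zero φ)
          exact (by decide : ∀ b : Four, b ≠ 0 → ∃ n : Fin 3, Four.w ^ (n : ℕ) = b) a this
        refine ⟨⟨(u 4) ^ (n : ℕ), pow_mem (hcentral _ .w (by rw [hu 4, ← scalar_eq]; rfl)) _⟩, Subtype.ext ?_⟩
        show (((u 4) ^ (n : ℕ) : threeJ3 F ω) : GL F9 F).val 0 0 = φ a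
        rw [hpw, ← map_pow, hn]
        simp
    rw [Nat.card_congr (Equiv.ofBijective f hf)]
    classical
    rw [Nat.card_eq_fintype_card, Fintype.card_subtype_compl, Fintype.card_subtype_eq, hF]
  refine ⟨fun g hg => ⟨_, hdiag g hg⟩, hc, ?_, ⟨e⟩⟩
  rw [← Subgroup.index_mul_card (Subgroup.center (threeJ3 F ω)), hc]
  show Nat.card (J3 F ω) * 3 = _
  rw [← Nat.card_congr e.toEquiv, card_eq]

theorem main : Nat.card (Subgroup.center (threeJ3 F ω)) = 3 ∧ Nat.card (threeJ3 F ω) = 150698880 ∧
    Nonempty (Pres ActJ.act.k relsJ ≃* J3 F ω) := (full hF ω hω).2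

end

theorem central_scalar (g : threeJ3 Four Four.w) (hg : g ∈ Subgroup.center (threeJ3 Four Four.w)) :
    ∃ c : Four, ((g : GL F9 Four) : M9) = c • (1 : M9) := (full Four.card_four Four.w (by decide)).1 g hg

end CfsgLib.Spor.J3.Mat
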