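/-
The matrices of the triple cover over the four-element field, written as numbers, and checked products.
-/
import Cfsg.Agent.Lib.Spor.Fi22.U6.Field
import Cfsg.Prelude.Def_Spor_J3

namespace CfsgLib.Spor.J3.Mat

open CfsgLib.Spor.Fi22.U6 Cfsg.Spor

/-- Nine by nine matrices. -/
abbrev M9 : Type := Matrix F9 F9 Four

/-- A number as an element of the field. -/
def four : ℕ → Four
  | 0 => .o
  | 1 => .e
  | 2 => .w
  | _ => .u

/-- The place of an index. -/
def num9 (z : F9) : ℕ := 3 * z.1.val + z.2.val

/-- The matrix with given columns. -/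
def matOf (c : ℕ) : M9 := Matrix.of fun w z => four (c / 4 ^ (9 * num9 z + num9 w) % 4)

/-- A list of matrices, each product of two earlier ones after the first ones. -/
structure Prog where
  base : List ℕ
  steps : List (ℕ × ℕ × ℕ)

/-- All values. -/
def Prog.vals (p : Prog) : List ℕ := p.base ++ p.steps.map fun s => s.2.2

/-- The value of a place. -/
def Prog.val (p : Prog) (i : ℕ) : M9 := matOf (p.vals.getD i 0)

/-- A step is right. -/
def Prog.Good (p : Prog) (k : ℕ) : Prop :=
  (p.steps.getD k (0, 0, 0)).1 < p.base.length + k ∧ (p.steps.getD k (0, 0, 0)).2.1 < p.base.length + k ∧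
    p.val (p.steps.getD k (0, 0, 0)).1 * p.val (p.steps.getD k (0, 0, 0)).2.1 =
      matOf (p.steps.getD k (0, 0, 0)).2.2

instance (p : Prog) (k : ℕ) : Decidable (p.Good k) := by unfold Prog.Good; infer_instance

/-- Every value lies in a submonoid containing the first ones. -/
theorem Prog.mem {p : Prog} {S : Submonoid M9} (hgood : ∀ k, k < p.steps.length → p.Good k)
    (hbase : ∀ i, i < p.base.length → p.val i ∈ S) : ∀ i, i < p.base.length + p.steps.length → p.val i ∈ S := by
  intro i
  induction i using Nat.strong_induction_on with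
  | _ i ih =>
    intro hi
    by_cases h : i < p.base.length
    · exact hbase i h
    obtain ⟨k, rfl⟩ : ∃ k, i = p.base.length + k := ⟨i - p.base.length, by omega⟩
    obtain ⟨h1, h2, e⟩ := hgood k (by omega)
    have hv : p.val (p.base.length + k) = matOf (p.steps.getD k (0, 0, 0)).2.2 := by
      have hk : k < p.steps.length := by omega
      rw [Prog.val, Prog.vals, List.getD_append_right _ _ _ _ (by omega), Nat.add_sub_cancel_left,
        List.getD_eq_getElem _ _ (by rw [List.length_map]; exact hk), List.getElem_map,
        List.getD_eq_getElem _ _ hk]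
    rw [hv, ← e]
    exact S.mul_mem (ih _ h1 (by omega)) (ih _ h2 (by omega))

end CfsgLib.Spor.J3.Mat
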