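/-
The matrix group is a triple cover of the third Janko group, inside a unitary group.
-/
import Cfsg.Agent.Lib.Spor.J3.Mat.Group
import Cfsg.Prelude.Def_Classical

namespace CfsgLib.Spor.J3.Mat

open CfsgLib.Spor.TC CfsgLib.Spor.Fi22.U6 Cfsg.Spor Matrix

theorem summary (F : Type) [Field F] [Fintype F] (hF : Fintype.card F = 4) (ω : F) (hω : ω ^ 2 + ω + 1 = 0) :
    Nat.card (Subgroup.center (threeJ3 F ω)) = 3 ∧ Nat.card (threeJ3 F ω) = 150698880 ∧
      Nat.card (J3 F ω) = 50232960 ∧ IsSimpleGroup (J3 F ω) := by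
  obtain ⟨h1, h2, ⟨e⟩⟩ := main hF ω hω
  haveI := simple
  exact ⟨h1, h2, (Nat.card_congr e.toEquiv).symm.trans card_eq, e.symm.isSimpleGroup⟩

/-- The generators preserve the Hermitian form. -/
theorem gens_unitary : ∀ i : Fin 43,
    (progA.val i)ᵀ * (progA.val i).map (fun x => x * x) = 1 := by decide +kernel

theorem scalar_det (c : Four) (h : c ≠ 0) : c ^ 9 = 1 :=
  (by decide : ∀ c : Four, c ≠ 0 → c ^ 9 = 1) c h

/-- Indices as the first nine numbers. -/
def nine : Fin 9 ≃ F9 where
  toFun i := ⟨((i.val / 3 : ℕ) : ZMod 3), ((i.val % 3 : ℕ) : ZMod 3)⟩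
  invFun z := ⟨num9 z, by have := z.1.val_lt; have := z.2.val_lt; unfold num9; omega⟩
  left_inv := by decide
  right_inv := by decide

theorem in_unitary :
    ∃ (F : Type) (_ : Field F) (_ : Fintype F), Fintype.card F = 4 ∧
      ∃ H : Subgroup (Cfsg.SU 9 F 2), Nat.card (Subgroup.center H) = 3 ∧ Cfsg.IsJ3 (H ⧸ Subgroup.center H) := by
  obtain ⟨hcen, -, hJ, hsimp⟩ := summary Four Four.card_four .w (by decide)
  -- the group preserves the form
  have key : ∀ g : GL F9 Four, g ∈ threeJ3 Four Four.w →
      (g : M9)ᵀ * (g : M9).map (fun x => x * x) = 1 := by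
    have hsq : ∀ A B : M9, (A * B).map (fun x => x * x) = A.map (fun x => x * x) * B.map (fun x => x * x) := by
      intro A B
      let σ : Four →+* Four :=
        { toFun := fun x => x * x
          map_one' := by decide
          map_mul' := by decide
          map_zero' := by decide
          map_add' := by decide }
      exact Matrix.map_mul (f := σ)
    intro g hg
    induction hg using Subgroup.closure_induction with
    | mem g hg =>
      obtain ⟨i, hi⟩ : ∃ i : Fin 43, progA.val i = (g : M9) := by
        have hn : ∀ Z : F9, num9 Z < 9 := by decide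
        have hn0 : ∀ Z : F9, Z ≠ 0 → 1 ≤ num9 Z := by decide
        have back : ∀ j : Fin 43, progA.val j = progB.val (outGens.getD j 0) := gens_same
        rcases hg with (((⟨Z, e⟩ | ⟨Z, e⟩) | ⟨Z, e⟩) | ⟨Z, hZ, e⟩) | ⟨Z, hZ, e⟩
        · exact ⟨⟨num9 Z, by have := hn Z; omega⟩, (back _).trans ((gens_back Z).1.trans e)⟩
        · exact ⟨⟨9 + num9 Z, by have := hn Z; omega⟩, (back _).trans ((gens_back Z).2.1.trans e)⟩
        · exact ⟨⟨18 + num9 Z, by have := hn Z; omega⟩, (back _).trans ((gens_back Z).2.2.1.trans e)⟩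
        · exact ⟨⟨26 + num9 Z, by have := hn Z; omega⟩, (back _).trans (((gens_back Z).2.2.2 hZ).1.trans e.symm)⟩
        · exact ⟨⟨34 + num9 Z, by have := hn Z; omega⟩, (back _).trans (((gens_back Z).2.2.2 hZ).2.trans e.symm)⟩
      rw [← hi]
      exact gens_unitary i
    | one => simp only [Units.val_one]; decide +kernel
    | mul g h _ _ hg hh =>
      rw [Units.val_mul, hsq, Matrix.transpose_mul, Matrix.mul_assoc, ← Matrix.mul_assoc (g : M9)ᵀ, hg, one_mul, hh]
    | inv g _ hg =>
      have h1 : (g : M9).map (fun x => x * x) * ((g⁻¹ : GL F9 Four) : M9).map (fun x => x * x) = 1 := by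
        rw [← hsq, Units.mul_inv]
        decide +kernel
      have h2 : (g : M9).map (fun x => x * x) * (g : M9)ᵀ = 1 := mul_eq_one_comm.1 hg
      have h3 : ((g⁻¹ : GL F9 Four) : M9).map (fun x => x * x) = (g : M9)ᵀ :=
        (left_inv_eq_right_inv hg h1).symm
      rw [h3, ← Matrix.transpose_mul, Units.mul_inv, Matrix.transpose_one]
  -- the determinant is trivial
  have hdet : ∀ g : threeJ3 Four Four.w, ((g : GL F9 Four) : M9).det = 1 := by
    let δ : threeJ3 Four Four.w →* Fourˣ := Matrix.GeneralLinearGroup.det.comp (threeJ3 Four Four.w).subtype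
    obtain ⟨-, -, ⟨e⟩⟩ := main Four.card_four Four.w (by decide)
    haveI := simple
    haveI : IsSimpleGroup (J3 Four Four.w) := hsimp
    have hker : Subgroup.center (threeJ3 Four Four.w) ≤ δ.ker := by
      intro g hg
      rw [MonoidHom.mem_ker]
      refine Units.ext ?_
      obtain ⟨c, hc⟩ := central_scalar g hg
      simp only [δ, MonoidHom.comp_apply, Subgroup.coe_subtype, Units.val_one,
        Matrix.GeneralLinearGroup.val_det_apply]
      rw [hc, Matrix.det_smul, Matrix.det_one, mul_one, show Fintype.card F9 = 9 from rfl]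
      refine scalar_det c fun h0 => (g : GL F9 Four).ne_zero ?_
      rw [hc, h0, zero_smul]
    let δ' := QuotientGroup.lift (Subgroup.center (threeJ3 Four Four.w)) δ hker
    intro g
    rcases IsSimpleGroup.eq_bot_or_eq_top_of_normal δ'.ker inferInstance with h | h
    · exfalso
      have h3 := Nat.card_le_card_of_injective δ' ((MonoidHom.ker_eq_bot_iff δ').1 h)
      rw [hJ] at h3
      have : Nat.card Fourˣ ≤ 4 := by
        rw [← Four.card_four, ← Nat.card_eq_fintype_card]
        exact Nat.card_le_card_of_injective _ Units.val_injective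
      omega
    · have h4 : δ' (QuotientGroup.mk g) = 1 := MonoidHom.mem_ker.1 (h ▸ Subgroup.mem_top _)
      have h5 : δ g = 1 := (QuotientGroup.lift_mk _ hker g).symm.trans h4
      have h6 := congrArg Units.val h5
      simp only [δ, MonoidHom.comp_apply, Subgroup.coe_subtype, Units.val_one,
        Matrix.GeneralLinearGroup.val_det_apply] at h6
      exact h6
  -- carried to nine coordinates
  let R : threeJ3 Four Four.w → Matrix (Fin 9) (Fin 9) Four := fun g =>
    Matrix.reindexAlgEquiv Four Four nine.symm ((g : GL F9 Four) : M9)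
  have hR : ∀ g, (R g).det = 1 := fun g => by rw [Matrix.det_reindexAlgEquiv, hdet]
  have hU : ∀ g, (⟨R g, hR g⟩ : Matrix.SpecialLinearGroup (Fin 9) Four) ∈ Cfsg.SU 9 Four 2 := by
    intro g x y
    show Cfsg.hermForm 9 Four 2 (R g *ᵥ x) (R g *ᵥ y) = Cfsg.hermForm 9 Four 2 x y
    let σ : Four →+* Four :=
      { toFun := fun x => x * x
        map_one' := by decide
        map_mul' := by decide
        map_zero' := by decide
        map_add' := by decide }
    have hh : ∀ u v : Fin 9 → Four, Cfsg.hermForm 9 Four 2 u v = u ⬝ᵥ (σ ∘ v) := fun u v => by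
      simp only [Cfsg.hermForm, dotProduct, Function.comp_apply, pow_two]
      rfl
    have hm : (R g)ᵀ * (R g).map σ = 1 := by
      have h := congrArg (Matrix.reindexAlgEquiv Four Four nine.symm) (key _ g.2)
      rw [map_mul, map_one] at h
      exact h
    have hmv : σ ∘ (R g *ᵥ y) = (R g).map σ *ᵥ (σ ∘ y) := funext fun i => RingHom.map_mulVec σ (R g) y i
    have hm' : ((R g).map σ)ᵀ * R g = 1 := by
      rw [← Matrix.transpose_inj, Matrix.transpose_mul, Matrix.transpose_transpose, Matrix.transpose_one, hm]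
    rw [hh, hh, hmv, Matrix.dotProduct_mulVec, ← Matrix.mulVec_transpose, Matrix.mulVec_mulVec, hm',
      Matrix.one_mulVec]
  let f : threeJ3 Four Four.w →* Cfsg.SU 9 Four 2 :=
    { toFun := fun g => ⟨⟨R g, hR g⟩, hU g⟩
      map_one' := Subtype.ext (Subtype.ext (map_one (Matrix.reindexAlgEquiv Four Four nine.symm)))
      map_mul' := fun g h => Subtype.ext (Subtype.ext (map_mul (Matrix.reindexAlgEquiv Four Four nine.symm) _ _)) }
  have hf : Function.Injective f := fun g h e => Subtype.ext (Units.ext
    ((Matrix.reindexAlgEquiv Four Four nine.symm).injective (congrArg (fun z : Cfsg.SU 9 Four 2 => z.1.1) e)))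
  refine ⟨Four, inferInstance, inferInstance, Four.card_four, f.range, ?_⟩
  let e := MonoidHom.ofInjective hf
  have hmap : (Subgroup.center (threeJ3 Four Four.w)).map e.toMonoidHom = Subgroup.center f.range := by
    ext z
    simp only [Subgroup.mem_map_equiv, Subgroup.mem_center_iff]
    refine ⟨fun h y => ?_, fun h y => ?_⟩
    · have h2 := congrArg e (h (e.symm y))
      simp only [map_mul, MulEquiv.apply_symm_apply] at h2
      exact h2
    · have h2 := congrArg e.symm (h (e y))
      simp only [map_mul, MulEquiv.symm_apply_apply] at h2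
      exact h2
  refine ⟨?_, ?_⟩
  · rw [← hmap]
    exact (Subgroup.card_map_of_injective (f := e.toMonoidHom) e.injective).trans hcen
  · let e' : J3 Four Four.w ≃* f.range ⧸ Subgroup.center f.range := QuotientGroup.congr _ _ e hmap
    haveI := hsimp
    exact ⟨e'.symm.isSimpleGroup, (Nat.card_congr e'.toEquiv).symm.trans hJ⟩

end CfsgLib.Spor.J3.Mat
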